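import Cfsg.Agent.Class.Four.Lift
import Cfsg.Agent.Class.Five.L2
import Cfsg.Agent.Known.PSL2Basic
import Cfsg.Agent.S2116
import Cfsg.Agent.S0252
import Cfsg.Agent.S0253
import Cfsg.Agent.S0254

/-!
# The four-dimensional projective representations of `L₂(q)`
-/

set_option autoImplicit false

namespace Cfsg.Lib.Four

open Matrix Cfsg.Geo Cfsg.Lib.Class Cfsg.Lib.Class.Asch Cfsg.Lib.Mit
open scoped MatrixGroups

universe u

namespace Lift

open Cfsg.Lib.Five

variable {F : Type*} [Field F] {P : Subgroup (GL (Fin 4) F)}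

section L2

variable {K : Type*} [Field K] [Fintype K]

theorem l2_oneInv : OneInv (psl2 K) := fun a b ha ha1 hb hb1 => by
  have := Fact.mk Nat.prime_two
  have key : ∀ a : psl2 K, a * a = 1 → a ≠ 1 → orderOf ((pslEquivPsl2 K).symm a) = 2 :=
    fun a h h1 => by rw [MulEquiv.orderOf_eq, orderOf_eq_prime ((pow_two a).trans h) h1]
  simpa using (pslEquivPsl2 K).toMonoidHom.map_isConj
    (Known.GL2.isConj_of_orderOf_two_PSL (key a ha ha1) (key b hb hb1))

theorem l2_sreal (l : ℕ) [Fact l.Prime] [CharP K l] {g : psl2 K} (hg : g ^ l ≠ 1) :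
    ∃ w : psl2 K, w * w = 1 ∧ w * g * w⁻¹ = g⁻¹ := by
  obtain ⟨x, y, hT, hgT⟩ := exists_torusPair l (g := (g : PGL(2, K))) fun h => hg (Subtype.ext h)
  obtain ⟨w, hw, h3, h4⟩ := hT.exists_swap
  exact ⟨⟨w, hw⟩, Subtype.ext (mul_self_of_not_mem_fixPair hT.ne (.inr ⟨h3, h4⟩)
    (not_mem_fixPair_of_swap hT.ne h3)), Subtype.ext (conj_eq_inv_of_not_mem_fixPair hT.ne
      (.inr ⟨h3, h4⟩) (not_mem_fixPair_of_swap hT.ne h3) hgT)⟩

theorem l2_card4 (p : ℕ) [Fact p.Prime] [CharP F p] {π : P →* psl2 K} (h : Cv π)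
    (hK : 4 ≤ Fintype.card K) {x : P} (h₀ : tr4 x.1⁻¹ ≠ tr4 x.1) : Fintype.card K = 7 := by
  classical
  obtain ⟨l, hlK⟩ := CharP.exists K
  have hl : Fact l.Prime := ⟨CharP.char_is_prime K l⟩
  have h2 : π x * π x ≠ 1 := fun e => h₀ (h.good_two (p := p) e x rfl).1
  have h1 : π x ^ l = 1 := by_contra fun h1 => by
    obtain ⟨w, hw, hc⟩ := l2_sreal l h1
    exact h₀ (tr4_isConj (h.real l2_oneInv hw hc h2))
  have ho : Odd l := hl.out.odd_of_ne_two fun e => h2 (by rwa [e, pow_two] at h1)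
  obtain ⟨u, d, ua, u0, up, hd, b, hb⟩ := l2_borel l h1
  have u1 : u 0 = 1 := by simpa using ua 0 0
  choose y hy hy' using fun t => h.exists_odd ho (g := u t)
    (by rw [up, CharP.cast_eq_zero, zero_mul, u1])
  choose D hD using fun k => h.pr.surj (d k)
  have cj : ∀ (c : P) (s t : K), π c * u s * (π c)⁻¹ = u t → c * y s * c⁻¹ = y t := fun c s t e =>
    h.odd_unique ho (by rw [map_mul, map_mul, map_inv, hy, hy, e])
      (by rw [conj_pow, hy', mul_one, mul_inv_cancel]) (hy' t)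
  have cm : ∀ s t, y s * y t = y t * y s := fun s t => mul_inv_eq_iff_eq_mul.1
    (cj _ _ _ (by rw [hy, ← ua, add_comm, ua, mul_inv_cancel_right]))
  have ad : ∀ s t, y (s + t) = y s * y t := fun s t =>
    h.odd_unique ho (by rw [map_mul, hy, hy, hy, ua]) (hy' _)
      (by rw [Commute.mul_pow (cm s t), hy', hy', one_mul])
  have h3 : tr4 (y b).1⁻¹ ≠ tr4 (y b).1 := fun e => h₀ (by
    rcases h.sg (hb.trans (hy b).symm) with e1 | e1 <;> rw [e1]
    · exact e
    · rw [inv_neg, tr4_neg, tr4_neg, e])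
  have h4 : (y b).1 ^ l = 1 := congrArg Subtype.val (hy' b)
  have hF : (l : F) ≠ 0 := fun e => by
    have := (CharP.charP_iff_prime_eq_zero hl.out).2 e
    exact h3 (rat_of_unip (p := l) (k := 1) (by rwa [pow_one])).1
  have h5 : Fintype.card K % 4 = 3 := by
    by_contra h5
    obtain ⟨k, hk⟩ := FiniteField.isSquare_neg_one_iff.2 h5
    have e1 := cj (D (Units.mk0 k (by rintro rfl; simp at hk))) b (-b)
      (by rw [hD, hd, Units.val_mk0, pow_two, ← hk, neg_one_mul])
    have e2 : y 0 = 1 := by simpa using ad 0 0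
    rw [eq_inv_of_mul_eq_one_left ((ad (-b) b).symm.trans (by rw [neg_add_cancel, e2]))] at e1
    exact h3 (tr4_isConj (isConj_iff.2 ⟨_, congrArg Subtype.val e1⟩))
  choose r hr using fun k : (powMonoidHom 2 : Kˣ →* Kˣ).range => k.2
  have h6 := orbit_le (fun t => (y t).1) (fun s t => congrArg Subtype.val (cm s t)) hF (a₀ := b)
    (fun e => h3 (by rw [e, inv_one])) h4 (fun k => (D (r k)).1⁻¹) (fun k t => (k : Kˣ) * t)
    (fun k t => by
      rw [← congrArg Subtype.val (cj (D (r k)) t ((k : Kˣ) * t) (by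
        rw [hD, hd, ← hr, powMonoidHom_apply, Units.val_pow_eq_pow_val]))]
      simp [mul_assoc])
    fun k k' e => ⟨b / ((k : Kˣ) - (k' : Kˣ)), by
      have : ((k : Kˣ) : K) - (k' : Kˣ) ≠ 0 := sub_ne_zero.2 fun h => e (Subtype.ext (Units.ext h))
      rw [← Subgroup.coe_mul, ← ad]
      congr 2
      field_simp
      ring⟩
  rw [← Nat.card_eq_fintype_card, IsCyclic.card_powMonoidHom_range, Nat.card_units,
    Nat.card_eq_fintype_card, Fintype.card_fin,
    show (Fintype.card K - 1).gcd 2 = 2 from Nat.gcd_eq_right (by omega)] at h6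
  omega

end L2

section L27

open Cfsg.Lib.Known Cfsg.Lib.Known.G168

variable {π : P →* tab.El}

theorem l27_oneInv : OneInv tab.El := fun a b ha ha1 hb hb1 => by
  have := Fact.mk Nat.prime_two
  exact isConj_of_rep (MulEquiv.refl _) conj_two (orderOf_eq_prime ((pow_two a).trans ha) ha1)
    (orderOf_eq_prime ((pow_two b).trans hb) hb1)

theorem l27_gen4 (K : Subgroup tab.El) (h1 : tab.el 2 ∈ K) (h2 : tab.el 12 ∈ K) : K = ⊤ :=
  eq_top_iff.2 fun a _ => GTab.clos_sound K [2, 12] (by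
    simp only [List.mem_cons, List.not_mem_nil, or_false, forall_eq_or_imp, forall_eq]
    exact ⟨⟨by decide, h1⟩, by decide, h2⟩) a
    ((by decide +kernel : ∀ a : tab.El, GTab.bit (tab.clos [2, 12]) a.1 = true) a)

theorem l27_good (p : ℕ) [Fact p.Prime] [CharP F p] (h : Cv π) (x : P) :
    Rat p x.1 ∨ Sev x.1 := by
  have h1 := pow_orderOf_eq_one (π x)
  rcases orderOf_cases (MulEquiv.refl _) (π x) with e | e | e | e | e
  · exact .inl (h.good_two (by rw [orderOf_eq_one_iff.1 e, one_mul]) x rfl)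
  · exact .inl (h.good_two (by rwa [e, pow_two] at h1) x rfl)
  · exact .inl (h.good_conj (h.good_three (g := tab.el 4) (by decide +kernel)
      (isConj_iff.2 ⟨tab.el 68, by decide +kernel⟩))
      (isConj_iff.2 (conj_three _ ((orderOf_eq _).symm.trans e))) x rfl)
  · exact .inl (h.good_conj (h.good_four l27_oneInv (g := tab.el 12) (w := tab.el 23)
      (t := tab.el 2) (by decide +kernel) (by decide +kernel) (by decide +kernel)
      (by decide +kernel) (by decide +kernel) l27_gen4)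
      (isConj_iff.2 (conj_four _ ((orderOf_eq _).symm.trans e))) x rfl)
  · refine .inr (h.sev (e ▸ h1) ?_)
    have h2 : IsConj (tab.el 1) (tab.el 1 ^ 2) := isConj_iff.2 ⟨tab.el 116, by decide +kernel⟩
    obtain ⟨g, hg | hg⟩ := conj_seven _ ((orderOf_eq _).symm.trans e)
    · have h3 := isConj_iff.2 ⟨g, hg⟩
      exact (h3.symm.trans h2).trans (h3.pow 2)
    · have h3 := isConj_iff.2 ⟨g, hg⟩
      simpa using isConj_inv ((h3.symm.trans h2).trans (h3.pow 2))

theorem l27_neg (h : Cv π) (h7 : (7 : F) ≠ 0) : -1 ∈ P ∧ (2 : F) ≠ 0 := by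
  by_contra h0
  have hi : Function.Injective π := (injective_iff_map_eq_one π).2 fun z hz => by
    rcases h.ker hz with e | e
    · exact Subtype.ext e
    · by_cases h2 : (2 : F) = 0
      · exact Subtype.ext (e.trans (neg_eq_of_two h2 1))
      · exact absurd ⟨e ▸ z.2, h2⟩ h0
  have := Finite.of_injective π hi
  obtain ⟨a, ha⟩ := h.pr.surj (tab.el 2)
  obtain ⟨b, hb⟩ := h.pr.surj (tab.el 2 * tab.el 1)
  have hgen : ∀ M : Subgroup tab.El, π a ∈ M → π b ∈ M → M = ⊤ := fun M h1 h2 => by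
    rw [ha] at h1
    rw [hb] at h2
    exact l27_gen (by simpa using mul_mem (inv_mem h1) h2) h1
  have a1 : π a ≠ 1 := by rw [ha]; decide +kernel
  have a2 : π a * π a = 1 := by rw [ha]; decide +kernel
  have b3 : b ^ 3 = 1 := hi (by rw [map_pow, hb, map_one]; decide +kernel)
  have c7 : (a * b)⁻¹ ^ 7 = 1 := hi (by
    rw [map_pow, map_inv, map_mul, ha, hb, map_one]; decide +kernel)
  have h1 := scott4 h.qs.env_top (a := a.1) (b := b.1) (c := ((a * b)⁻¹ : P).1) (by simp)
    (fun e => a1 (by rw [show a = 1 from Subtype.ext e, map_one])) fun W w1 w2 => by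
      let M : Submonoid P :=
        { carrier := {g | ∀ v ∈ W, (g.1 : Matrix (Fin 4) (Fin 4) F) *ᵥ v ∈ W}
          mul_mem' := fun {x y} hx hy v hv => by
            rw [Subgroup.coe_mul, Units.val_mul, ← mulVec_mulVec]; exact hx _ (hy v hv)
          one_mem' := fun v hv => by simpa using hv }
      let N : Subgroup P := { M with
        inv_mem' := fun {x} hx => Submonoid.powers_le.2 hx
          (mem_powers_iff_mem_zpowers.2 (inv_mem (Subgroup.mem_zpowers x))) }
      intro g hg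
      obtain ⟨y, hy, e⟩ := (hgen (N.map π) ⟨a, w1, rfl⟩ ⟨b, w2, rfl⟩).ge
        (Subgroup.mem_top (π ⟨g, hg⟩))
      obtain rfl := hi e
      exact hy
  have h2 := rank_of_inv (M := a.1.1)
    (congrArg (fun x : P => x.1.1) (hi (by rw [map_pow, pow_two, a2, map_one]) : a ^ 2 = 1))
    (or_iff_not_imp_left.2 fun h2 => h.trace_two h2 a2 a1)
  have h3 := (rank_of_three (congrArg Subtype.val b3) (h.odd_conj (by decide) b3 (by
    rw [hb]; exact isConj_iff.2 ⟨tab.el 70, by decide +kernel⟩))).resolve_left fun hq =>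
      quad_pair h.qs.env_top (h.qd a2) hq (h.le_closure hgen)
  have h4 := rank_of_seven h7 (congrArg Subtype.val c7) (h.odd_conj (by decide) c7 (by
    rw [map_inv, map_mul, ha, hb]; exact isConj_iff.2 ⟨tab.el 116, by decide +kernel⟩))
  omega

end L27

end Lift

open Lift Cfsg.Lib.Known Cfsg.Lib.Known.G168 in
theorem wL2 : WL2.{u} := fun F _ _ P h ⟨K, _, _, ⟨e⟩⟩ => by
  have h1 := gcd_mul_card_PSL2 (F := K)
  rw [Nat.card_eq_fintype_card (α := K)] at h1
  have hK : 4 ≤ Fintype.card K := by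
    by_contra h2
    have := h.qs.simple
    have h3 := Fintype.one_lt_card (α := K)
    rw [← Nat.card_congr e.toEquiv] at h1
    have := Char.isSolvable_of_card_dvd (a := 3) (b := 1) Nat.prime_two Nat.prime_three (Bar P)
      ((Dvd.intro_left _ h1).trans (by
        generalize Fintype.card K = q at *
        interval_cases q <;> norm_num))
    exact h.qs.nonabelian ⟨⟨IsSimpleGroup.comm_iff_isSolvable.2 this⟩⟩
  have hc : Cv (QuotientGroup.mk' ((scalars (Fin 4) F).subgroupOf P)) := by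
    by_cases h4 : Fintype.card K = 4
    · have := Fact.mk Nat.prime_five
      obtain ⟨f⟩ := Cfsg.Agent.S0252.result h4
      obtain ⟨f'⟩ := Cfsg.Agent.S0253.result (ZMod.card 5)
      exact cv_of_mult h.qs (proj_bar4 P) ((e.trans f).trans f'.symm) (by norm_num)
        (Cfsg.Agent.S2086.result (ZMod.card 5) 2 le_rfl (by norm_num) (by simp))
    by_cases h9 : Fintype.card K = 9
    · obtain ⟨f⟩ := Cfsg.Agent.S0254.result h9
      exact cv_of_mult h.qs (proj_bar4 P) (e.trans f) (by norm_num)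
        (Cfsg.Agent.S2116.result 6 (.inl rfl))
    exact cv_of_mult h.qs (proj_bar4 P) e (fun h5 => by
      have := Nat.le_of_dvd (by omega) (h5.trans (Nat.gcd_dvd_left 2 (Fintype.card K - 1)))
      omega) (Cfsg.Agent.S2086.result rfl 2 le_rfl (fun _ => hK) (by simp [h4, h9]))
  obtain ⟨p, hpF⟩ := CharP.exists F
  have hp : Fact p.Prime := ⟨CharP.char_is_prime F p⟩
  by_cases h₀ : ∀ x ∈ P, tr4 x⁻¹ = tr4 x
  · exact (fix_of_real4 h.qs.env_top h₀).imp_right .inl
  push Not at h₀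
  obtain ⟨x, hx, h₀⟩ := h₀
  have h2 := l2_card4 p (hc.comp (e.trans (pslEquivPsl2 K))) hK (x := ⟨x, hx⟩) h₀
  have := Fact.mk (by norm_num : Nat.Prime 7)
  obtain ⟨f⟩ := nonempty_ringEquiv_zmod (by norm_num) h2
  obtain ⟨f'⟩ := nonempty_equiv_psl
  have h3 := hc.comp ((e.trans (pslEquiv _ f)).trans f'.symm)
  rcases out_of_rat h.qs.env_top h.ns fun x hx => l27_good p h3 ⟨x, hx⟩ with h4 | h4 | h4
  · exact .inl h4
  · exact .inr (.inl h4)
  obtain ⟨h5, h6⟩ := l27_neg h3 h4.1
  refine .inr (.inr ⟨p, hp.out, hpF, .inr (.inr (.inr ⟨⟨e.trans (pslEquiv _ f)⟩, h.nt, h5, ?_,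
    h4.2⟩))⟩)
  rintro rfl
  exact h6 (by exact_mod_cast CharP.cast_eq_zero F 2)

end Cfsg.Lib.Four
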